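import Cfsg.Agent.Lib.FFourLocal.CT.Main
import Cfsg.Agent.Lib.SpThreeCent.SixEnd.Stab
import Mathlib.Algebra.CharP.CharAndCard

/-!
# The isomorphism `F₄(2) ≅ ⟨Φt S, Φs S⟩` with the images of the fundamental root elements
-/

set_option autoImplicit false
set_option maxRecDepth 100000

namespace Cfsg.Agent.FFourLocal.Id

open Cfsg.Lie Cfsg.Agent.Chevalley Cfsg.Agent.Chevalley.Cert Cfsg.Agent.Chevalley.Group
open Cfsg.Agent.SpThreeCent.SixEnd

universe u v

/-- Subgroup of the model containing enough conjugates of one transvection. -/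
theorem top_of_words {T : Subgroup S} (g : List S) (hg : ∀ s ∈ g, s ∈ T) {x : Fin 64}
    (hx : tvS x ∈ T) (W : Fin 7 → List ℕ)
    (hW : ∀ i, (W i).foldr (fun j y => (g.getD j 1 : Equiv.Perm (Fin 64)) y) x = nodeVec i) :
    T = ⊤ := by
  rw [eq_top_iff, ← closure_range_node, Subgroup.closure_le]
  rintro _ ⟨i, rfl⟩
  have key : ∀ w : List ℕ, tvS (w.foldr (fun j y => (g.getD j 1 : Equiv.Perm (Fin 64)) y) x) ∈ T := by
    intro w
    induction w with
    | nil => exact hx
    | cons j w ih =>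
      have hj : g.getD j 1 ∈ T := by
        rw [List.getD_eq_getElem?_getD]
        by_cases hlt : j < g.length
        · rw [List.getElem?_eq_getElem hlt]
          exact hg _ (List.getElem_mem hlt)
        · rw [List.getElem?_eq_none (by omega)]
          exact one_mem _
      rw [List.foldr_cons, ← tvS_conj]
      exact mul_mem (mul_mem hj ih) (inv_mem hj)
  have e := key (W i)
  rw [hW i] at e
  exact e

/-- The generators of the model for the nodes `0, 1, 2`. -/
def gensC : List S := [sh 4 8, sh 1 32, sh 2 32, sh 4 16, tvS 16, tvS 2]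

/-- The generators of the model for the nodes `1, 2, 3`. -/
def gensB : List S := [tvS 32, tvS 4, sh 4 16, sh 2 32, sh 2 8, sh 1 16]

theorem top_C {T : Subgroup S} (h : ∀ s ∈ gensC, s ∈ T) : T = ⊤ :=
  top_of_words gensC h (x := 16) (h _ (by simp [gensC]))
    ![[3, 2], [], [2, 4, 3, 5], [4, 5, 2], [1, 0, 2], [0, 2, 4, 1, 3, 5], [1, 3, 0, 2]]
    (by decide +kernel)

theorem top_B {T : Subgroup S} (h : ∀ s ∈ gensB, s ∈ T) : T = ⊤ :=
  top_of_words gensB h (x := 32) (h _ (by simp [gensB]))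
    ![[], [3, 2], [0, 1], [1, 3, 1], [4, 3, 2], [4, 5, 2, 3, 0, 1], [5, 4, 3, 2]]
    (by decide +kernel)

variable {G : Type u} [Group G] {Φt Φs : S →* G}

theorem phi_val_C {i r : ℕ} (hi : i < 3) (hr : r ∈ rts i) (h : r ∈ [33, 14, 27, 20, 25, 22]) :
    ((phi Φt Φs i ⟨X r, X_mem_R1 (by omega) hr⟩ : glued Φt Φs) : G) = Φt (toS (xC r h)) := by
  rw [phi_C hi, MonoidHom.comp_apply, ψt_coe, natC_X hi hr h]

theorem phi_val_B (hd : CTData Φt Φs) {i r : ℕ} (hi : 0 < i) (hi' : i < 4) (hr : r ∈ rts i)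
    (h : r ∈ [27, 20, 25, 22, 24, 23]) :
    ((phi Φt Φs i ⟨X r, X_mem_R1 hi' hr⟩ : glued Φt Φs) : G) = Φs (toS (xB r h)) := by
  rw [phi_B hd hi hi', MonoidHom.comp_apply, ψs_coe, natB_X hi hi' hr h]

theorem gen (hd : CTData Φt Φs) :
    ⨆ (i : ℕ) (_ : i < chevF4.rank), (phi Φt Φs i).range = ⊤ := by
  set J : Subgroup ↥(glued Φt Φs) := ⨆ (i : ℕ) (_ : i < chevF4.rank), (phi Φt Φs i).range with hJ
  have hmem : ∀ i, i < 4 → ∀ g, ((phi Φt Φs i g : glued Φt Φs) : G) ∈ J.map (glued Φt Φs).subtype :=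
    fun i hi g => ⟨_, Subgroup.mem_iSup_of_mem i (Subgroup.mem_iSup_of_mem (show i < chevF4.rank from hi)
      ⟨g, rfl⟩), rfl⟩
  have hC' : ∀ r (h : r ∈ [33, 14, 27, 20, 25, 22]),
      Φt (toS (xC r h)) ∈ J.map (glued Φt Φs).subtype := by
    intro r h
    obtain ⟨i, hi, hr⟩ : ∃ i < 3, r ∈ rts i := by
      simp only [List.mem_cons, List.not_mem_nil, or_false] at h
      rcases h with rfl | rfl | rfl | rfl | rfl | rfl
      exacts [⟨0, by simp [rts]⟩, ⟨0, by simp [rts]⟩, ⟨1, by simp [rts]⟩, ⟨1, by simp [rts]⟩,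
        ⟨2, by simp [rts]⟩, ⟨2, by simp [rts]⟩]
    rw [← phi_val_C (Φs := Φs) hi hr h]
    exact hmem i (by omega) _
  have hB' : ∀ r (h : r ∈ [27, 20, 25, 22, 24, 23]),
      Φs (toS (xB r h)) ∈ J.map (glued Φt Φs).subtype := by
    intro r h
    obtain ⟨i, hi, hi', hr⟩ : ∃ i, 0 < i ∧ i < 4 ∧ r ∈ rts i := by
      simp only [List.mem_cons, List.not_mem_nil, or_false] at h
      rcases h with rfl | rfl | rfl | rfl | rfl | rfl
      exacts [⟨1, by simp [rts]⟩, ⟨1, by simp [rts]⟩, ⟨2, by simp [rts]⟩, ⟨2, by simp [rts]⟩,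
        ⟨3, by simp [rts]⟩, ⟨3, by simp [rts]⟩]
    rw [← phi_val_B hd hi hi' hr h]
    exact hmem i hi' _
  have hT : (J.map (glued Φt Φs).subtype).comap Φt = ⊤ := top_C fun s hs => by
    simp only [gensC, List.mem_cons, List.not_mem_nil, or_false] at hs
    show Φt s ∈ J.map (glued Φt Φs).subtype
    rcases hs with rfl | rfl | rfl | rfl | rfl | rfl
    · rw [← imC33]; exact hC' _ _
    · rw [← imC14]; exact hC' _ _
    · rw [← imC27]; exact hC' _ _
    · rw [← imC20]; exact hC' _ _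
    · rw [← imC25]; exact hC' _ _
    · rw [← imC22]; exact hC' _ _
  have hS' : (J.map (glued Φt Φs).subtype).comap Φs = ⊤ := top_B fun s hs => by
    simp only [gensB, List.mem_cons, List.not_mem_nil, or_false] at hs
    show Φs s ∈ J.map (glued Φt Φs).subtype
    rcases hs with rfl | rfl | rfl | rfl | rfl | rfl
    · rw [← imB27]; exact hB' _ _
    · rw [← imB20]; exact hB' _ _
    · rw [← imB25]; exact hB' _ _
    · rw [← imB22]; exact hB' _ _
    · rw [← imB24]; exact hB' _ _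
    · rw [← imB23]; exact hB' _ _
  have hle : glued Φt Φs ≤ J.map (glued Φt Φs).subtype := by
    refine sup_le ?_ ?_
    · rintro _ ⟨s, rfl⟩
      exact (hT ▸ Subgroup.mem_top s : s ∈ (J.map (glued Φt Φs).subtype).comap Φt)
    · rintro _ ⟨s, rfl⟩
      exact (hS' ▸ Subgroup.mem_top s : s ∈ (J.map (glued Φt Φs).subtype).comap Φs)
  refine eq_top_iff.2 fun x _ => ?_
  obtain ⟨y, hy, e⟩ := hle x.2
  rw [← (Subtype.ext e : y = x)]
  exact hy

theorem center_glued (hd : CTData Φt Φs) : Subgroup.center ↥(glued Φt Φs) = ⊥ := by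
  refine eq_bot_iff.2 fun c hc => Subgroup.mem_bot.2 (Subtype.ext ?_)
  have h := Subgroup.mem_center_iff.1 hc
  exact hd.centre c c.2
    (fun s => (congrArg Subtype.val (h ⟨Φt s, Subgroup.mem_sup_left ⟨s, rfl⟩⟩)).symm)
    (fun s => (congrArg Subtype.val (h ⟨Φs s, Subgroup.mem_sup_right ⟨s, rfl⟩⟩)).symm)

/-- The image of a fundamental root element or its negative. -/
def img (Φt Φs : S →* G) : ℕ → G
  | 33 => Φt (sh 4 8)
  | 14 => Φt (sh 1 32)
  | 27 => Φt (sh 2 32)
  | 20 => Φt (sh 4 16)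
  | 25 => Φt (tvS 16)
  | 22 => Φt (tvS 2)
  | 24 => Φs (sh 2 8)
  | 23 => Φs (sh 1 16)
  | _ => 1

theorem exists_iso_two (hd : CTData Φt Φs) :
    ∃ f : ↥(chevF4.group K₂) →* G, Function.Injective f ∧ f.range = Φt.range ⊔ Φs.range ∧
      ∀ r ∈ [33, 14, 27, 20, 25, 22, 24, 23], ∃ h : X r ∈ chevF4.group K₂, f ⟨X r, h⟩ = img Φt Φs r := by
  obtain ⟨f, hf, hval⟩ := exists_hom (D := chevF4) (F := K₂) hC CT.Types.F4.certs
    (show StKernel.HasCerts Data.F4.tab from ⟨⟨_, Types.CoefF4.coef_ok⟩, ⟨_, Types.StCerts.conj_F4⟩⟩)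
    (coherent hd) (gen hd) (center_glued hd)
  have hnt : Nontrivial ↥(glued Φt Φs) := by
    refine ⟨⟨⟨Φt (tvS 16), Subgroup.mem_sup_left ⟨_, rfl⟩⟩, 1, fun e => ?_⟩⟩
    have e2 : tvS 16 = (1 : S) := hd.inj_t ((congrArg Subtype.val e).trans (map_one Φt).symm)
    have e3 := congrArg (fun s : S => (s : Equiv.Perm (Fin 64)) 2) e2
    revert e3
    decide +kernel
  have hinj : Function.Injective f := by
    haveI := (Types.SimpleF4.simple_group K₂).1
    refine (MonoidHom.ker_eq_bot_iff f).1 ((MonoidHom.normal_ker f).eq_bot_or_eq_top.resolve_right fun e => ?_)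
    obtain ⟨x, hx⟩ := exists_ne (1 : ↥(glued Φt Φs))
    obtain ⟨y, rfl⟩ := hf x
    exact hx (MonoidHom.mem_ker.1 (e ▸ Subgroup.mem_top y))
  refine ⟨(glued Φt Φs).subtype.comp f, Subtype.val_injective.comp hinj, ?_, ?_⟩
  · refine le_antisymm ?_ fun x hx => ?_
    · rintro _ ⟨y, rfl⟩
      exact (f y).2
    · obtain ⟨y, hy⟩ := hf ⟨x, hx⟩
      exact ⟨y, congrArg Subtype.val hy⟩
  · have main : ∀ i (hi : i < 4), ∀ r (hr : r ∈ rts i), ∃ h : X r ∈ chevF4.group K₂,
        ((f ⟨X r, h⟩ : glued Φt Φs) : G) = ((phi Φt Φs i ⟨X r, X_mem_R1 hi hr⟩ : glued Φt Φs) : G) := by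
      intro i hi r hr
      obtain ⟨h, e⟩ := hval i hi (X r) (X_mem_R1 hi hr)
      exact ⟨h, congrArg Subtype.val e⟩
    intro r hr
    simp only [List.mem_cons, List.not_mem_nil, or_false] at hr
    rcases hr with rfl | rfl | rfl | rfl | rfl | rfl | rfl | rfl
    · obtain ⟨h, e⟩ := main 0 (by norm_num) 33 (by simp [rts])
      exact ⟨h, e.trans ((phi_val_C (by norm_num) (r := 33) (by simp [rts]) (by simp)).trans (congrArg Φt imC33))⟩
    · obtain ⟨h, e⟩ := main 0 (by norm_num) 14 (by simp [rts])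
      exact ⟨h, e.trans ((phi_val_C (by norm_num) (r := 14) (by simp [rts]) (by simp)).trans (congrArg Φt imC14))⟩
    · obtain ⟨h, e⟩ := main 1 (by norm_num) 27 (by simp [rts])
      exact ⟨h, e.trans ((phi_val_C (by norm_num) (r := 27) (by simp [rts]) (by simp)).trans (congrArg Φt imC27))⟩
    · obtain ⟨h, e⟩ := main 1 (by norm_num) 20 (by simp [rts])
      exact ⟨h, e.trans ((phi_val_C (by norm_num) (r := 20) (by simp [rts]) (by simp)).trans (congrArg Φt imC20))⟩
    · obtain ⟨h, e⟩ := main 2 (by norm_num) 25 (by simp [rts])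
      exact ⟨h, e.trans ((phi_val_C (by norm_num) (r := 25) (by simp [rts]) (by simp)).trans (congrArg Φt imC25))⟩
    · obtain ⟨h, e⟩ := main 2 (by norm_num) 22 (by simp [rts])
      exact ⟨h, e.trans ((phi_val_C (by norm_num) (r := 22) (by simp [rts]) (by simp)).trans (congrArg Φt imC22))⟩
    · obtain ⟨h, e⟩ := main 3 (by norm_num) 24 (by simp [rts])
      exact ⟨h, e.trans ((phi_val_B hd (by norm_num) (by norm_num) (r := 24) (by simp [rts]) (by simp)).trans (congrArg Φs imB24))⟩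
    · obtain ⟨h, e⟩ := main 3 (by norm_num) 23 (by simp [rts])
      exact ⟨h, e.trans ((phi_val_B hd (by norm_num) (by norm_num) (r := 23) (by simp [rts]) (by simp)).trans (congrArg Φs imB23))⟩

end Cfsg.Agent.FFourLocal.Id

namespace Cfsg.Agent.FFourLocal

open Cfsg.Lie Cfsg.Agent.Chevalley Cfsg.Agent.Chevalley.Cert Cfsg.Agent.Chevalley.Group
open Cfsg.Agent.SpThreeCent.SixEnd

universe u v

variable {G : Type u} [Group G] {Φt Φs : S →* G}

/-- The glued group is `F₄(2)`, with the images of the fundamental root elements and their negatives. -/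
theorem exists_f4_iso (h : CTData Φt Φs) (F : Type v) [Field F] [Fintype F]
    (hF : Fintype.card F = 2) :
    ∃ f : ↥(chevF4.group F) →* G, Function.Injective f ∧ f.range = Φt.range ⊔ Φs.range ∧
      ∀ r ∈ [33, 14, 27, 20, 25, 22, 24, 23],
        ∃ hm : xg Id.hC r (1 : F) ∈ chevF4.group F, f ⟨xg Id.hC r (1 : F), hm⟩ = Id.img Φt Φs r := by
  obtain ⟨f, hinj, hr, hv⟩ := Id.exists_iso_two h
  haveI : CharP F 2 := charP_of_card_eq_prime hF
  let c : Id.K₂ →+* F := ZMod.castHom dvd_rfl F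
  have hc : Function.Bijective c := (Fintype.bijective_iff_injective_and_card c).2
    ⟨RingHom.injective c, by rw [ZMod.card, hF]⟩
  let e : Id.K₂ ≃+* F := RingEquiv.ofBijective c hc
  let E : ↥(chevF4.group F) ≃* ↥(chevF4.group Id.K₂) :=
    { toFun := fun g => ⟨FieldAut.mapGL chevF4 e.symm.toRingHom g,
        FieldAut.map_mem_group e.symm.toRingHom g.2⟩
      invFun := fun g => ⟨FieldAut.mapGL chevF4 e.toRingHom g, FieldAut.map_mem_group e.toRingHom g.2⟩
      left_inv := fun g => by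
        refine Subtype.ext (Units.ext ?_)
        ext a b
        exact e.apply_symm_apply _
      right_inv := fun g => by
        refine Subtype.ext (Units.ext ?_)
        ext a b
        exact e.symm_apply_apply _
      map_mul' := fun g g' => Subtype.ext
        (map_mul (FieldAut.mapGL chevF4 e.symm.toRingHom) (g : GL chevF4.Idx F) g') }
  refine ⟨f.comp E.toMonoidHom, hinj.comp E.injective, ?_, fun r hr' => ?_⟩
  · rw [MonoidHom.range_comp, MonoidHom.range_eq_top.2 E.surjective, ← MonoidHom.range_eq_map, hr]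
  · obtain ⟨hm, e'⟩ := hv r hr'
    have ex : FieldAut.mapGL chevF4 e.symm.toRingHom (xg Id.hC r (1 : F)) = Id.X r := by
      refine Units.ext ?_
      rw [FieldAut.mapGL_coe, Id.X, coe_xg, coe_xg, FieldAut.x_map, map_one]
    refine ⟨Borel.xg_mem_group Id.hC (by
      simp only [List.mem_cons, List.not_mem_nil, or_false] at hr'
      show r < 48
      omega) 1, ?_⟩
    rw [← e']
    exact congrArg f (Subtype.ext ex)

end Cfsg.Agent.FFourLocal
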