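import Cfsg.Agent.Lib.FFourLocal.Id.Model
import Cfsg.Agent.Lib.FFourLocal.CTInterface
import Cfsg.Agent.Lib.SpThreeCent.SixEnd.Facts

/-!
# The root elements of the two Levi subgroups in the permutation model
-/

set_option autoImplicit false
set_option maxRecDepth 100000

namespace Cfsg.Agent.FFourLocal.Id

open Cfsg.Lie Cfsg.Agent.SpThreeCent.SixEnd

/-- The model of the symplectic group as a homomorphism. -/
noncomputable def toS : Matrix.symplecticGroup (Fin 3) K₂ →* S := spEquiv.toMonoidHom

theorem toS_eq {A : Matrix.symplecticGroup (Fin 3) K₂} {s : S}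
    (h : ∀ a : Fin 64, encF ((A : Matrix (Fin 3 ⊕ Fin 3) (Fin 3 ⊕ Fin 3) K₂).mulVec (dec a)) =
      (s : Equiv.Perm (Fin 64)) a) : toS A = s :=
  Subtype.ext (Equiv.ext h)

theorem imC33 : toS (xC 33 (by simp)) = sh 4 8 := toS_eq (by decide +kernel)

theorem imC14 : toS (xC 14 (by simp)) = sh 1 32 := toS_eq (by decide +kernel)

theorem imC27 : toS (xC 27 (by simp)) = sh 2 32 := toS_eq (by decide +kernel)

theorem imC20 : toS (xC 20 (by simp)) = sh 4 16 := toS_eq (by decide +kernel)

theorem imC25 : toS (xC 25 (by simp)) = tvS 16 := toS_eq (by decide +kernel)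

theorem imC22 : toS (xC 22 (by simp)) = tvS 2 := toS_eq (by decide +kernel)

theorem imB27 : toS (xB 27 (by simp)) = tvS 32 := toS_eq (by decide +kernel)

theorem imB20 : toS (xB 20 (by simp)) = tvS 4 := toS_eq (by decide +kernel)

theorem imB25 : toS (xB 25 (by simp)) = sh 4 16 := toS_eq (by decide +kernel)

theorem imB22 : toS (xB 22 (by simp)) = sh 2 32 := toS_eq (by decide +kernel)

theorem imB24 : toS (xB 24 (by simp)) = sh 2 8 := toS_eq (by decide +kernel)

theorem imB23 : toS (xB 23 (by simp)) = sh 1 16 := toS_eq (by decide +kernel)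

end Cfsg.Agent.FFourLocal.Id
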