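import Cfsg.Agent.Lib.FFourLocal.CT.Images
import Cfsg.Agent.Lib.FFourLocal.Id.Glue
import Cfsg.Agent.Lib.Chevalley.CT.TypesF4
import Cfsg.Agent.Lib.Chevalley.Types.StCerts
import Cfsg.Agent.Lib.Chevalley.Types.SimpleF4
import Cfsg.Agent.Lib.Chevalley.FieldAut
import Mathlib.Algebra.Field.ZMod

/-!
# The group glued from the two Levi complements is `F₄(2)`
-/

set_option autoImplicit false
set_option maxRecDepth 100000

namespace Cfsg.Agent.FFourLocal.Id

open Cfsg.Lie Cfsg.Agent.Chevalley Cfsg.Agent.Chevalley.Cert Cfsg.Agent.Chevalley.Group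
  Cfsg.Agent.Chevalley.Unip
open Cfsg.Agent.SpThreeCent.SixEnd (S tvS)

universe u

/-- An element of a dihedral group of order six commuting with both generators is trivial. -/
theorem eq_one_of_comm {M : Type*} [Group M] {a b x : M} (ha : a * a = 1) (hb : b * b = 1)
    (hab : a * b * a = b * a * b) (hne : a ≠ b) (hx : x ∈ Subgroup.closure {a, b})
    (hxa : Commute x a) (hxb : Commute x b) : x = 1 := by
  have ea : ∀ y, a * (a * y) = y := fun y => by rw [← mul_assoc, ha, one_mul]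
  have eb : ∀ y, b * (b * y) = y := fun y => by rw [← mul_assoc, hb, one_mul]
  have ia : a⁻¹ = a := inv_eq_of_mul_eq_one_right ha
  have ib : b⁻¹ = b := inv_eq_of_mul_eq_one_right hb
  have br : ∀ y, b * (a * (b * y)) = a * (b * (a * y)) := fun y => by
    rw [← mul_assoc, ← mul_assoc, ← hab, mul_assoc, mul_assoc]
  have br0 : b * (a * b) = a * (b * a) := by rw [← mul_assoc, ← hab, mul_assoc]
  have key : x = 1 ∨ x = a ∨ x = b ∨ x = a * b ∨ x = b * a ∨ x = a * (b * a) := by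
    have step : ∀ g : M, g = a ∨ g = b → ∀ y : M,
        (y = 1 ∨ y = a ∨ y = b ∨ y = a * b ∨ y = b * a ∨ y = a * (b * a)) →
        (g * y = 1 ∨ g * y = a ∨ g * y = b ∨ g * y = a * b ∨ g * y = b * a ∨ g * y = a * (b * a)) := by
      rintro g (rfl | rfl) y (rfl | rfl | rfl | rfl | rfl | rfl) <;>
        simp [ha, hb, ea, eb, br, br0]
    clear hxa hxb
    induction hx using Subgroup.closure_induction_left with
    | one => exact Or.inl rfl
    | mul_left g hg y _ ih => exact step g hg y ih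
    | inv_mul_cancel g hg y _ ih =>
      refine step g⁻¹ ?_ y ih
      rcases hg with rfl | rfl
      · exact Or.inl ia
      · exact Or.inr ib
  have nc : a * b ≠ b * a := by
    intro e
    refine hne ?_
    have h1 : a * (b * a) = b := by rw [← e, ea]
    have h2 : b * (a * b) = a := by rw [e, eb]
    rw [← h2, br0, h1]
  rcases key with h | h | h | h | h | h
  · exact h
  · exact absurd (h ▸ hxb.eq) nc
  · exact absurd ((h ▸ hxa.eq).symm) nc
  · refine absurd ?_ nc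
    have e : a * b * a = a * (a * b) := h ▸ hxa.eq
    rw [ea] at e
    calc a * b = a * b * a * a := by rw [mul_assoc _ a a, ha, mul_one]
      _ = b * a := by rw [e]
  · refine absurd ?_ nc
    have e : b * a * a = a * (b * a) := h ▸ hxa.eq
    rw [mul_assoc b, ha, mul_one] at e
    calc a * b = a * (a * (b * a)) := by rw [← e]
      _ = b * a := ea _
  · refine absurd ?_ nc
    have e : a * (b * a) * a = a * (a * (b * a)) := h ▸ hxa.eq
    rw [ea, mul_assoc, mul_assoc b, ha, mul_one] at e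
    exact e

theorem commute_X {r s : ℕ} (h : r < chevF4.nroots ∧ s < chevF4.nroots ∧ s ≠ r ∧ s ≠ chevF4.neg r ∧
    (chevF4.commTerms r s).isEmpty = true) : Commute (X s) (X r) := by
  obtain ⟨h1, h2, h3, h4, h5⟩ := h
  have e := xg_comm hC h1 h2 h3 h4 (1 : K₂) (1 : K₂)
  rw [List.isEmpty_iff] at h5
  rw [ChevalleyDatum.commWord, h5] at e
  simp at e
  exact e

theorem far_ok : ∀ r ∈ [24, 23], ∀ s ∈ [33, 14], r < chevF4.nroots ∧ s < chevF4.nroots ∧ s ≠ r ∧
    s ≠ chevF4.neg r ∧ (chevF4.commTerms r s).isEmpty = true := by decide +kernel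

theorem R1_induction {i : ℕ} (hi : i < 4) {H : Type*} [Group H] (f g : ↥(R1 i) →* H)
    (h : ∀ r (hr : r ∈ rts i), f ⟨X r, X_mem_R1 hi hr⟩ = g ⟨X r, X_mem_R1 hi hr⟩) : f = g := by
  have hle : R1 i ≤ (f.eqLocus g).map (R1 i).subtype :=
    R1_le hi fun r hr => ⟨⟨X r, X_mem_R1 hi hr⟩, h r hr, rfl⟩
  refine MonoidHom.ext fun x => ?_
  obtain ⟨y, hy, e⟩ := hle x.2
  obtain rfl : y = x := Subtype.ext e
  exact hy

theorem commute_gens {A : Type*} [Group A] {K : Subgroup A} {x : A} {P : Set A}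
    (hle : ∀ H : Subgroup A, P ⊆ H → K ≤ H) (h : ∀ y ∈ P, Commute x y) {k : A} (hk : k ∈ K) :
    Commute x k :=
  Subgroup.mem_centralizer_singleton_iff.1
    (hle (Subgroup.centralizer {x}) (fun y hy => Subgroup.mem_centralizer_singleton_iff.2 (h y hy).symm.eq) hk)
    |> fun e => (Commute.symm e)

theorem commute_far : ∀ k ∈ R1 0, ∀ l ∈ R1 3, Commute k l := by
  intro k hk l hl
  refine (commute_gens (K := R1 0) (P := X '' {r | r ∈ rts 0})
    (fun H hH => R1_le (i := 0) (by norm_num) fun r hr => hH ⟨r, hr, rfl⟩) ?_ hk).symm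
  rintro _ ⟨s, hs, rfl⟩
  refine (commute_gens (K := R1 3) (P := X '' {r | r ∈ rts 3})
    (fun H hH => R1_le (i := 3) (by norm_num) fun r hr => hH ⟨r, hr, rfl⟩) ?_ hl).symm
  rintro _ ⟨r, hr, rfl⟩
  exact commute_X (far_ok r hr s hs)

theorem natC_X {i r : ℕ} (hi : i < 3) (hr : r ∈ rts i) (h : r ∈ [33, 14, 27, 20, 25, 22]) :
    natC hi ⟨X r, X_mem_R1 (by omega) hr⟩ = xC r h := homC_X r h

theorem natB_X {i r : ℕ} (hi : 0 < i) (hi' : i < 4) (hr : r ∈ rts i)
    (h : r ∈ [27, 20, 25, 22, 24, 23]) :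
    natB hi hi' ⟨X r, X_mem_R1 hi' hr⟩ = xB r h := homB_X r h

theorem xC_rel : xC 33 (by simp) * xC 33 (by simp) = 1 ∧ xC 14 (by simp) * xC 14 (by simp) = 1 ∧
    xC 33 (by simp) * xC 14 (by simp) * xC 33 (by simp) =
      xC 14 (by simp) * xC 33 (by simp) * xC 14 (by simp) ∧ xC 33 (by simp) ≠ xC 14 (by simp) := by
  refine ⟨Subtype.ext ?_, Subtype.ext ?_, Subtype.ext ?_, fun e => ?_⟩
  · show flagC.block (chevF4.x K₂ 33 1) * flagC.block (chevF4.x K₂ 33 1) = 1
    decide +kernel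
  · show flagC.block (chevF4.x K₂ 14 1) * flagC.block (chevF4.x K₂ 14 1) = 1
    decide +kernel
  · show flagC.block (chevF4.x K₂ 33 1) * flagC.block (chevF4.x K₂ 14 1) * flagC.block (chevF4.x K₂ 33 1) =
      flagC.block (chevF4.x K₂ 14 1) * flagC.block (chevF4.x K₂ 33 1) * flagC.block (chevF4.x K₂ 14 1)
    decide +kernel
  · have e' : flagC.block (chevF4.x K₂ 33 1) = flagC.block (chevF4.x K₂ 14 1) := congrArg Subtype.val e
    revert e'
    decide +kernel

theorem xB_rel : xB 24 (by simp) * xB 24 (by simp) = 1 ∧ xB 23 (by simp) * xB 23 (by simp) = 1 ∧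
    xB 24 (by simp) * xB 23 (by simp) * xB 24 (by simp) =
      xB 23 (by simp) * xB 24 (by simp) * xB 23 (by simp) ∧ xB 24 (by simp) ≠ xB 23 (by simp) := by
  refine ⟨Subtype.ext ?_, Subtype.ext ?_, Subtype.ext ?_, fun e => ?_⟩
  · show flagB.block (chevF4.x K₂ 24 1) * flagB.block (chevF4.x K₂ 24 1) = 1
    decide +kernel
  · show flagB.block (chevF4.x K₂ 23 1) * flagB.block (chevF4.x K₂ 23 1) = 1
    decide +kernel
  · show flagB.block (chevF4.x K₂ 24 1) * flagB.block (chevF4.x K₂ 23 1) * flagB.block (chevF4.x K₂ 24 1) =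
      flagB.block (chevF4.x K₂ 23 1) * flagB.block (chevF4.x K₂ 24 1) * flagB.block (chevF4.x K₂ 23 1)
    decide +kernel
  · have e' : flagB.block (chevF4.x K₂ 24 1) = flagB.block (chevF4.x K₂ 23 1) := congrArg Subtype.val e
    revert e'
    decide +kernel

theorem natC_far {k : GL chevF4.Idx K₂} (h0 : k ∈ R1 0) (h3 : k ∈ R1 3) :
    natC (show 0 < 3 by norm_num) ⟨k, h0⟩ = 1 := by
  obtain ⟨ha, hb, hab, hne⟩ := xC_rel
  have hc : ∀ r (hr : r ∈ rts 0) (h : r ∈ [33, 14, 27, 20, 25, 22]),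
      Commute (natC (show 0 < 3 by norm_num) ⟨k, h0⟩) (xC r h) := fun r hr h => by
    rw [← natC_X (show 0 < 3 by norm_num) hr h]
    exact Commute.map
      (show Commute (⟨k, h0⟩ : ↥(R1 0)) ⟨X r, X_mem_R1 (by norm_num) hr⟩ from
        Subtype.ext (commute_far (X r) (X_mem_R1 (by norm_num) hr) k h3).symm.eq) _
  refine eq_one_of_comm ha hb hab hne ?_ (hc 33 (by simp [rts]) _) (hc 14 (by simp [rts]) _)
  have hle : R1 0 ≤ ((Subgroup.closure {xC 33 (by simp), xC 14 (by simp)}).comap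
      (natC (show 0 < 3 by norm_num))).map (R1 0).subtype := R1_le (by norm_num) fun r hr => by
    refine ⟨⟨X r, X_mem_R1 (by norm_num) hr⟩, ?_, rfl⟩
    simp only [rts, List.mem_cons, List.not_mem_nil, or_false] at hr
    rcases hr with rfl | rfl
    · exact Subgroup.subset_closure (Or.inl (natC_X (r := 33) (by norm_num) (by simp [rts]) (by simp)))
    · exact Subgroup.subset_closure (Or.inr (natC_X (r := 14) (by norm_num) (by simp [rts]) (by simp)))
  obtain ⟨y, hy, e⟩ := hle h0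
  obtain rfl : y = ⟨k, h0⟩ := Subtype.ext e
  exact hy

theorem natB_far {k : GL chevF4.Idx K₂} (h0 : k ∈ R1 0) (h3 : k ∈ R1 3) :
    natB (show 0 < 3 by norm_num) (show 3 < 4 by norm_num) ⟨k, h3⟩ = 1 := by
  obtain ⟨ha, hb, hab, hne⟩ := xB_rel
  have hc : ∀ r (hr : r ∈ rts 3) (h : r ∈ [27, 20, 25, 22, 24, 23]),
      Commute (natB (show 0 < 3 by norm_num) (show 3 < 4 by norm_num) ⟨k, h3⟩) (xB r h) := fun r hr h => by
    rw [← natB_X (show 0 < 3 by norm_num) (show 3 < 4 by norm_num) hr h]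
    exact Commute.map
      (show Commute (⟨k, h3⟩ : ↥(R1 3)) ⟨X r, X_mem_R1 (by norm_num) hr⟩ from
        Subtype.ext (commute_far k h0 (X r) (X_mem_R1 (by norm_num) hr)).eq) _
  refine eq_one_of_comm ha hb hab hne ?_ (hc 24 (by simp [rts]) _) (hc 23 (by simp [rts]) _)
  have hle : R1 3 ≤ ((Subgroup.closure {xB 24 (by simp), xB 23 (by simp)}).comap
      (natB (show 0 < 3 by norm_num) (show 3 < 4 by norm_num))).map (R1 3).subtype :=
    R1_le (by norm_num) fun r hr => by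
    refine ⟨⟨X r, X_mem_R1 (by norm_num) hr⟩, ?_, rfl⟩
    simp only [rts, List.mem_cons, List.not_mem_nil, or_false] at hr
    rcases hr with rfl | rfl
    · exact Subgroup.subset_closure (Or.inl (natB_X (r := 24) (by norm_num) (by norm_num) (by simp [rts]) (by simp)))
    · exact Subgroup.subset_closure (Or.inr (natB_X (r := 23) (by norm_num) (by norm_num) (by simp [rts]) (by simp)))
  obtain ⟨y, hy, e⟩ := hle h3
  obtain rfl : y = ⟨k, h3⟩ := Subtype.ext e
  exact hy

variable {G : Type u} [Group G] {Φt Φs : S →* G}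

/-- The glued group. -/
abbrev glued (Φt Φs : S →* G) : Subgroup G := Φt.range ⊔ Φs.range

/-- `Φt` into the glued group. -/
noncomputable def ψt (Φt Φs : S →* G) : Matrix.symplecticGroup (Fin 3) K₂ →* glued Φt Φs :=
  (Φt.comp toS).codRestrict _ fun _ => Subgroup.mem_sup_left ⟨_, rfl⟩

/-- `Φs` into the glued group. -/
noncomputable def ψs (Φt Φs : S →* G) : Matrix.symplecticGroup (Fin 3) K₂ →* glued Φt Φs :=
  (Φs.comp toS).codRestrict _ fun _ => Subgroup.mem_sup_right ⟨_, rfl⟩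

theorem ψt_coe (A : Matrix.symplecticGroup (Fin 3) K₂) : ((ψt Φt Φs A : glued Φt Φs) : G) = Φt (toS A) := rfl

theorem ψs_coe (A : Matrix.symplecticGroup (Fin 3) K₂) : ((ψs Φt Φs A : glued Φt Φs) : G) = Φs (toS A) := rfl

/-- The homomorphism on a rank-one subgroup. -/
noncomputable def phi (Φt Φs : S →* G) (i : ℕ) : ↥(R1 i) →* glued Φt Φs :=
  if h : i < 3 then (ψt Φt Φs).comp (natC h)
  else if h' : i < 4 then (ψs Φt Φs).comp (natB (by omega) h') else 1

theorem phi_C {i : ℕ} (h : i < 3) : phi Φt Φs i = (ψt Φt Φs).comp (natC h) := dif_pos h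

theorem phi_B (h : CTData Φt Φs) {i : ℕ} (hi : 0 < i) (hi' : i < 4) :
    phi Φt Φs i = (ψs Φt Φs).comp (natB hi hi') := by
  by_cases h3 : i < 3
  · rw [phi_C h3]
    refine R1_induction hi' _ _ fun r hr => Subtype.ext ?_
    interval_cases i <;> simp only [rts, List.mem_cons, List.not_mem_nil, or_false] at hr <;>
      rcases hr with rfl | rfl
    all_goals rw [MonoidHom.comp_apply, MonoidHom.comp_apply, ψt_coe, ψs_coe,
      natC_X (by norm_num) (by simp [rts]) (by simp), natB_X (by norm_num) (by norm_num) (by simp [rts]) (by simp)]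
    · rw [imC27, imB27]; exact h.agree3'
    · rw [imC20, imB20]; exact h.agree3
    · rw [imC25, imB25]; exact h.agree2'
    · rw [imC22, imB22]; exact h.agree2
  · rw [phi, dif_neg h3, dif_pos hi']

theorem coherent_C {i j : ℕ} (hi : i < 3) (hj : j < 3) :
    ∃ Ψ : ↥(R1 i ⊔ R1 j) →* glued Φt Φs,
      (∀ g (hg : g ∈ R1 i), Ψ ⟨g, Subgroup.mem_sup_left hg⟩ = phi Φt Φs i ⟨g, hg⟩) ∧
        ∀ g (hg : g ∈ R1 j), Ψ ⟨g, Subgroup.mem_sup_right hg⟩ = phi Φt Φs j ⟨g, hg⟩ :=
  ⟨(ψt Φt Φs).comp (flagC.hom.comp (Subgroup.inclusion (sup_le (R1_le_C hi) (R1_le_C hj)))),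
    fun g hg => by rw [phi_C hi]; rfl, fun g hg => by rw [phi_C hj]; rfl⟩

theorem coherent_B (h : CTData Φt Φs) {i j : ℕ} (hi : 0 < i) (hi' : i < 4) (hj : 0 < j) (hj' : j < 4) :
    ∃ Ψ : ↥(R1 i ⊔ R1 j) →* glued Φt Φs,
      (∀ g (hg : g ∈ R1 i), Ψ ⟨g, Subgroup.mem_sup_left hg⟩ = phi Φt Φs i ⟨g, hg⟩) ∧
        ∀ g (hg : g ∈ R1 j), Ψ ⟨g, Subgroup.mem_sup_right hg⟩ = phi Φt Φs j ⟨g, hg⟩ :=
  ⟨(ψs Φt Φs).comp (flagB.hom.comp (Subgroup.inclusion (sup_le (R1_le_B hi hi') (R1_le_B hj hj')))),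
    fun g hg => by rw [phi_B h hi hi']; rfl, fun g hg => by rw [phi_B h hj hj']; rfl⟩

theorem commute_phi (h : CTData Φt Φs) (k : ↥(R1 0)) (l : ↥(R1 3)) :
    Commute (phi Φt Φs 0 k) (phi Φt Φs 3 l) := by
  rw [phi_C (show 0 < 3 by norm_num), phi_B h (show 0 < 3 by norm_num) (show 3 < 4 by norm_num)]
  set α := (ψt Φt Φs).comp (natC (show 0 < 3 by norm_num))
  set β := (ψs Φt Φs).comp (natB (show 0 < 3 by norm_num) (show 3 < 4 by norm_num))
  have hgen : ∀ s (hs : s ∈ rts 0) r (hr : r ∈ rts 3),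
      Commute (α ⟨X s, X_mem_R1 (by norm_num) hs⟩) (β ⟨X r, X_mem_R1 (by norm_num) hr⟩) := by
    intro s hs r hr
    refine Subtype.ext ?_
    show Commute (Φt (toS _)) (Φs (toS _))
    simp only [rts, List.mem_cons, List.not_mem_nil, or_false] at hs hr
    rcases hs with rfl | rfl <;> rcases hr with rfl | rfl <;>
      rw [natC_X (by norm_num) (by simp [rts]) (by simp),
        natB_X (by norm_num) (by norm_num) (by simp [rts]) (by simp)]
    · rw [imC33, imB24]; exact h.comm_neg'.symm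
    · rw [imC33, imB23]; exact h.comm'.symm
    · rw [imC14, imB24]; exact h.comm_neg.symm
    · rw [imC14, imB23]; exact h.comm.symm
  have h1 : ∀ s (hs : s ∈ rts 0), ∀ l, Commute (α ⟨X s, X_mem_R1 (by norm_num) hs⟩) (β l) := by
    intro s hs l
    have hle : R1 3 ≤ ((Subgroup.centralizer
        ({α ⟨X s, X_mem_R1 (by norm_num) hs⟩} : Set (glued Φt Φs))).comap β).map (R1 3).subtype :=
      R1_le (by norm_num) fun r hr => ⟨⟨X r, X_mem_R1 (by norm_num) hr⟩,
        Subgroup.mem_centralizer_singleton_iff.2 (hgen s hs r hr).eq.symm, rfl⟩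
    obtain ⟨y, hy, e⟩ := hle l.2
    obtain rfl : y = l := Subtype.ext e
    exact (Subgroup.mem_centralizer_singleton_iff.1 hy).symm
  have hle : R1 0 ≤ ((Subgroup.centralizer ({β l} : Set (glued Φt Φs))).comap α).map (R1 0).subtype :=
    R1_le (by norm_num) fun s hs => ⟨⟨X s, X_mem_R1 (by norm_num) hs⟩,
      Subgroup.mem_centralizer_singleton_iff.2 (h1 s hs l).eq, rfl⟩
  obtain ⟨y, hy, e⟩ := hle k.2
  obtain rfl : y = k := Subtype.ext e
  exact Subgroup.mem_centralizer_singleton_iff.1 hy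

theorem coherent (h : CTData Φt Φs) : CT.Coherent (D := chevF4) (F := K₂) (phi Φt Φs) := by
  intro i hi j hj
  have hi4 : i < 4 := hi
  have hj4 : j < 4 := hj
  by_cases hij : i < 3 ∧ j < 3
  · exact coherent_C hij.1 hij.2
  by_cases hij' : 0 < i ∧ 0 < j
  · exact coherent_B h hij'.1 hi4 hij'.2 hj4
  have hv : ∀ k (h0 : k ∈ R1 0) (h3 : k ∈ R1 3),
      phi Φt Φs 0 ⟨k, h0⟩ = 1 ∧ phi Φt Φs 3 ⟨k, h3⟩ = 1 := fun k h0 h3 => by
    rw [phi_C (show 0 < 3 by norm_num), phi_B h (show 0 < 3 by norm_num) (show 3 < 4 by norm_num),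
      MonoidHom.comp_apply, MonoidHom.comp_apply, natC_far h0 h3, natB_far h0 h3, map_one, map_one]
    exact ⟨rfl, rfl⟩
  rcases (show (i = 0 ∧ j = 3) ∨ (i = 3 ∧ j = 0) by omega) with ⟨rfl, rfl⟩ | ⟨rfl, rfl⟩
  · exact exists_sup_hom commute_far _ _ (commute_phi h) hv
  · exact exists_sup_hom (fun k hk l hl => (commute_far l hl k hk).symm) _ _
      (fun k l => (commute_phi h l k).symm) fun k h3 h0 => (hv k h0 h3).symm

end Cfsg.Agent.FFourLocal.Id
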